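/-
The principal blocks along an irreducible restriction to a normal subgroup containing the `p`-regular
elements (namespace `Cfsg.Agent.ResidualCount`).

Main results: `omega_restrict`, `mem_principal_iff_restrict`.
-/
import Cfsg.Agent.Lib.BlocksNormal.Cover
import Cfsg.Agent.Lib.CharExtend.PRational
import Cfsg.Agent.Lib.Blocks.Osima
import Cfsg.Agent.Lib.BrauerPairs.Basic

set_option autoImplicit false
set_option linter.unusedSectionVars false

namespace Cfsg.Agent.ResidualCount

open Cfsg Cfsg.Agent.Blocks

variable {G : Type*} [Group G] [Finite G] {p : ℕ} {M : Ideal AlgInt} {N : Subgroup G} [N.Normal]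

/-- Central characters of a function supported in `N` are those of its restriction. -/
theorem omega_restrict {χ : G → ℂ} {θ : N → ℂ} (hres : ∀ n : N, θ n = χ (n : G)) {z : G → ℂ}
    (hz : ∀ x, x ∉ N → z x = 0) : omega χ z = omega θ (fun n : N => z (n : G)) := by
  classical
  have := Fintype.ofFinite G
  rw [omega_eq_sum, omega_eq_sum, hres 1, OneMemClass.coe_one]
  congr 1
  simp only [hres]
  rw [← Finset.sum_subset (Finset.subset_univ (Finset.univ.filter (· ∈ N)))
    (fun x _ hx => by
      rw [hz x (fun h => hx (Finset.mem_filter.mpr ⟨Finset.mem_univ _, h⟩)), zero_mul])]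
  exact Finset.sum_subtype _ (fun x => by simp) (fun x => z x * χ x)

/-- Two characters of one block agree at every local integral class function, modulo the ideal. -/
theorem omega_congr (hM : IsPModular p M) {χ ψ : IrrCharacter G}
    (h : SameBlock M (χ : G → ℂ) (ψ : G → ℂ)) {z : G → ℂ} (hz : IsClassFunction G z)
    (hzR : ∀ x, MemLocalRing M (z x)) :
    MemLocalIdeal M (omega (χ : G → ℂ) z - omega (ψ : G → ℂ) z) := by
  classical
  have := Fintype.ofFinite (ConjClasses G)
  rw [omega_eq_sum_classes hz, omega_eq_sum_classes hz, ← Finset.sum_sub_distrib]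
  refine memI_sum hM _ fun q _ => ?_
  rw [← mul_sub]
  exact memI_mul_left hM (hzR _) (h _)

theorem mem_principal_iff_restrict [Fact p.Prime] (hM : IsPModular p M)
    (hreg : ∀ g : G, ¬ p ∣ orderOf g → g ∈ N) {χ : IrrCharacter G} {θ : IrrCharacter N}
    (hres : ∀ n : N, (θ : N → ℂ) n = (χ : G → ℂ) (n : G)) :
    χ ∈ principalBlock M G ↔ θ ∈ principalBlock M N := by
  classical
  have := Fintype.ofFinite G
  have hone : ∀ n : N, (fun _ : N => (1 : ℂ)) n = (fun _ : G => (1 : ℂ)) (n : G) := fun _ => rfl
  constructor
  · intro hχ
    have hB : IsPBlock M (principalBlock M N) := BrauerPairs.isPBlock_principal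
    let a : G → ℂ := fun x => if hx : x ∈ N then blockCoeff (principalBlock M N) ⟨x, hx⟩ else 0
    have ha0 : ∀ x, x ∉ N → a x = 0 := fun x hx => dif_neg hx
    have han : (fun n : N => a (n : G)) = blockCoeff (principalBlock M N) := funext fun n => dif_pos n.2
    have haR : ∀ x, MemLocalRing M (a x) := fun x => by
      simp only [a]
      split_ifs
      · exact memR_blockCoeff hM hB _
      · exact memR_zero hM
    have haC : IsClassFunction G a := by
      intro x c
      by_cases hx : x ∈ N
      · have hy : c * x * c⁻¹ ∈ N := ‹N.Normal›.conj_mem x hx c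
        simp only [a, dif_pos hx, dif_pos hy]
        exact (BrauerPairs.blockCoeff_principalBlock_equiv (MulAut.conjNormal c : MulAut N) ⟨x, hx⟩).symm
      · have hy : c * x * c⁻¹ ∉ N := fun h => hx (by
          simpa [mul_assoc] using ‹N.Normal›.conj_mem _ h c⁻¹)
        simp only [a, dif_neg hx, dif_neg hy]
    have h1 := omega_congr hM (χ := BrauerPairs.oneIrr G) (ψ := χ) hχ haC haR
    rw [omega_restrict (θ := fun _ : N => (1 : ℂ)) hone ha0, omega_restrict hres ha0, han] at h1
    have := Fintype.ofFinite N
    rw [show omega (fun _ : N => (1 : ℂ)) (blockCoeff (principalBlock M N)) = 1 by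
      rw [omega_eq_sum]
      simp only [mul_one, div_one]
      exact BrauerPairs.sum_blockCoeff (BrauerPairs.oneIrr_mem_principal hM)] at h1
    rw [blockCoeff_eq_ofOmega, omega_ofOmega] at h1
    by_contra hθ
    rw [blockInd_of_notMem hθ, sub_zero] at h1
    exact not_memI_one hM h1
  · intro hθ
    refine PRational.mem_principal_of_regular hM fun g hg => memI_sub_comm ?_
    have hgN := hreg g hg
    have hz0 : ∀ x, x ∉ N → classInd g x = 0 := fun x hx => by
      simp only [classInd]
      refine if_neg fun hc => hx ?_
      obtain ⟨c, rfl⟩ := isConj_iff.mp hc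
      exact ‹N.Normal›.conj_mem g hgN c
    have hzR : ∀ x : G, MemLocalRing M (classInd g x) := fun x => by
      simp only [classInd]
      split_ifs
      · exact memR_one hM
      · exact memR_zero hM
    have h1 := omega_congr hM (χ := BrauerPairs.oneIrr N) (ψ := θ) hθ
      (BlocksNormal.isClassFunction_restrict (isClassFunction_classInd g) N) (fun n => hzR n)
    rw [← omega_restrict (θ := (θ : N → ℂ)) hres hz0,
      ← omega_restrict (θ := (BrauerPairs.oneIrr N : N → ℂ)) (χ := (BrauerPairs.oneIrr G : G → ℂ))
        (fun _ => rfl) hz0, omega_classInd, omega_classInd] at h1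
    exact h1

end Cfsg.Agent.ResidualCount
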