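/-
The `p`-residual and the linear characters of a cyclic quotient (namespace `Cfsg.Agent.ResidualCount`).

Main results: `sup_sylow`, `index_eq_pow`, `linear_value`, `exists_index_map`, `exists_twist_of_restrict`,
`card_mul_eq_zero`.
-/
import Cfsg.Prelude.Def_Transfer
import Cfsg.Prelude.Def_Characters
import Cfsg.Agent.Lib.Char.Inner
import Cfsg.Agent.Lib.Char.Linear
import Mathlib.Analysis.SpecialFunctions.Complex.CircleAddChar
import Mathlib.NumberTheory.LegendreSymbol.AddCharacter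
import Mathlib.GroupTheory.SpecificGroups.Cyclic
import Mathlib.GroupTheory.Sylow

set_option autoImplicit false
set_option linter.unusedSectionVars false

open scoped ComplexConjugate

namespace Cfsg.Agent.ResidualCount

open Cfsg

variable {G : Type*} [Group G] [Finite G] {p : ℕ} [hp : Fact p.Prime] {N : Subgroup G} [N.Normal]

/-- An element of `q`-power order, `q ≠ p`, lies in the residual. -/
theorem mem_of_not_dvd (hN : N = Cfsg.pResidual p G) {g : G} (hg : ¬ p ∣ orderOf g) : g ∈ N :=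
  hN ▸ Subgroup.subset_closure (hp.out.coprime_iff_not_dvd.mpr hg).symm

theorem index_eq_pow (hN : N = Cfsg.pResidual p G) : ∃ a, N.index = p ^ a := by
  refine ⟨_, Nat.eq_prime_pow_of_unique_prime_dvd Subgroup.index_ne_zero_of_finite fun {q} hq hqN => ?_⟩
  by_contra hne
  have := Fact.mk hq
  obtain ⟨Q⟩ := (inferInstance : Nonempty (Sylow q G))
  refine Q.not_dvd_index (hqN.trans (Subgroup.index_dvd_of_le fun g hg => mem_of_not_dvd hN fun hd => ?_))
  obtain ⟨j, hj⟩ := Q.isPGroup' ⟨g, hg⟩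
  have h1 : g ^ q ^ j = 1 := congrArg Subtype.val hj
  have h2 := hp.out.dvd_of_dvd_pow (hd.trans (orderOf_dvd_of_pow_eq_one h1))
  exact hne ((Nat.prime_dvd_prime_iff_eq hp.out hq).mp h2).symm

theorem sup_sylow (hN : N = Cfsg.pResidual p G) (P : Sylow p G) : (P : Subgroup G) ⊔ N = ⊤ := by
  obtain ⟨a, ha⟩ := index_eq_pow hN
  rw [← Subgroup.index_eq_one]
  have h1 : ((P : Subgroup G) ⊔ N).index ∣ p ^ a := ha ▸ Subgroup.index_dvd_of_le le_sup_right
  obtain ⟨i, -, hi⟩ := (Nat.dvd_prime_pow hp.out).mp h1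
  rcases Nat.eq_zero_or_pos i with rfl | hpos
  · simpa using hi
  · exact absurd ((dvd_pow_self p hpos.ne').trans (hi.symm.dvd.trans (Subgroup.index_dvd_of_le le_sup_left)))
      P.not_dvd_index

/-- A homomorphism of the residual has values of order prime to `p`. -/
theorem linear_value (hN : N = Cfsg.pResidual p G) (l : N →* ℂˣ) (n : N) {a : ℕ} (hn : l n ^ p ^ a = 1) :
    l n = 1 := by
  set m := Nat.card G / p ^ (Nat.card G).factorization p with hm
  have hmp : ¬ p ∣ m := Nat.not_dvd_ordCompl hp.out Nat.card_pos.ne'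
  have hall : ∀ (x : G) (hx : x ∈ Cfsg.pResidual p G), l ⟨x, hN ▸ hx⟩ ^ m = 1 := by
    intro x hx
    induction hx using Subgroup.closure_induction with
    | mem g hg =>
      have h1 : orderOf g ∣ m := by
        have h2 : orderOf g ∣ p ^ (Nat.card G).factorization p * m := by
          rw [hm, Nat.ordProj_mul_ordCompl_eq_self]; exact orderOf_dvd_natCard g
        exact (Nat.Coprime.pow_right _ hg).dvd_of_dvd_mul_left h2
      rw [← map_pow, show (⟨g, hN ▸ Subgroup.subset_closure hg⟩ : N) ^ m = 1 from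
        Subtype.ext (by rw [SubmonoidClass.coe_pow]; exact orderOf_dvd_iff_pow_eq_one.mp h1), map_one]
    | one => exact (congrArg (· ^ m) (map_one l)).trans (one_pow m)
    | mul x y hx hy ihx ihy =>
      rw [show (⟨x * y, hN ▸ mul_mem hx hy⟩ : N) = ⟨x, hN ▸ hx⟩ * ⟨y, hN ▸ hy⟩ from rfl, map_mul, mul_pow, ihx, ihy,
        one_mul]
    | inv x hx ihx =>
      rw [show (⟨x⁻¹, hN ▸ inv_mem hx⟩ : N) = (⟨x, hN ▸ hx⟩ : N)⁻¹ from rfl, map_inv, inv_pow, ihx, inv_one]
  have h1 : l n ^ m = 1 := hall n (hN ▸ n.2)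
  have h2 := Nat.eq_one_of_dvd_coprimes (Nat.Coprime.pow_right a (hp.out.coprime_iff_not_dvd.mpr hmp).symm)
    (orderOf_dvd_of_pow_eq_one h1) (orderOf_dvd_of_pow_eq_one hn)
  exact orderOf_eq_one_iff.mp h2

/-- Coordinates on a cyclic quotient, taking the value `1` at a `p`-element. -/
theorem exists_index_map (hN : N = Cfsg.pResidual p G) (hcyc : IsCyclic (G ⧸ N)) (P : Sylow p G) :
    ∃ (ε : G → ZMod N.index) (g0 : G), (∀ g h, ε (g * h) = ε g + ε h) ∧ (∀ g, ε g = 0 ↔ g ∈ N) ∧
      ε g0 = 1 ∧ g0 ∈ (P : Subgroup G) := by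
  let e : Multiplicative (ZMod N.index) ≃* G ⧸ N := zmodCyclicMulEquiv hcyc
  obtain ⟨g1, hg1⟩ := QuotientGroup.mk_surjective (e (Multiplicative.ofAdd 1))
  obtain ⟨u, hu, n, hn, hun⟩ := Subgroup.mem_sup_of_normal_right.mp
    ((sup_sylow hN P).symm ▸ Subgroup.mem_top g1)
  have hmk : (QuotientGroup.mk u : G ⧸ N) = QuotientGroup.mk g1 := by
    rw [← hun, QuotientGroup.mk_mul, (QuotientGroup.eq_one_iff n).mpr hn, mul_one]
  refine ⟨fun g => (e.symm (QuotientGroup.mk g)).toAdd, u, fun g h => ?_, fun g => ?_, ?_, hu⟩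
  · simp [QuotientGroup.mk_mul]
  · rw [toAdd_eq_zero, MulEquiv.map_eq_one_iff, QuotientGroup.eq_one_iff]
  · simp [hmk, hg1]

variable [Fintype G]

/-- Irreducible characters with the same irreducible restriction differ by a linear character of the quotient. -/
theorem exists_twist_of_restrict {m : ℕ} [NeZero m] (hm : N.index = m) (ε : G → ZMod m)
    (hε : ∀ g, ε g = 0 ↔ g ∈ N) {χ χ' : G → ℂ}
    (htw : ∀ j : ZMod m, IsIrrCharacter G (fun g => χ g * ZMod.stdAddChar (j * ε g)))
    (hχ' : IsIrrCharacter G χ') (hres : IsIrrCharacter N (fun n : N => χ n)) (heq : ∀ n : N, χ' n = χ n) :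
    (∃ j : ZMod m, ∀ g, χ' g = χ g * ZMod.stdAddChar (j * ε g)) ∧
      ∀ j : ZMod m, (∀ g, χ g = χ g * ZMod.stdAddChar (j * ε g)) → j = 0 := by
  classical
  have := Fintype.ofFinite N
  have hsum : ∀ φ : G → ℂ, (∀ n : N, φ n = χ n) →
      ∑ j : ZMod m, classInner (fun g => χ g * ZMod.stdAddChar (j * ε g)) φ = 1 := by
    intro φ hφ
    have hval : ∀ g, ∑ j : ZMod m, ZMod.stdAddChar (j * ε g) = if g ∈ N then (m : ℂ) else 0 := fun g => by
      rw [AddChar.sum_mulShift (ε g) (ZMod.isPrimitive_stdAddChar m), ZMod.card]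
      simp only [hε]
      push_cast
      rfl
    have h1 := Char.classInner_irr_self hres
    rw [classInner] at h1
    simp only [classInner]
    rw [← Finset.mul_sum, Finset.sum_comm]
    simp only [mul_right_comm (χ _) _ (conj _)]
    simp only [← Finset.mul_sum, hval, mul_ite, mul_zero]
    rw [← Finset.sum_filter, Finset.sum_subtype (p := fun g => g ∈ N) _ (fun g => by simp)
      (fun g => χ g * conj (φ g) * (m : ℂ))]
    simp only [hφ]
    rw [← Finset.sum_mul, ← N.card_mul_index, hm]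
    push_cast
    rw [mul_inv, ← h1]
    have : (m : ℂ) ≠ 0 := Nat.cast_ne_zero.mpr (NeZero.ne m)
    field_simp
  refine ⟨?_, fun j hj => ?_⟩
  · obtain ⟨j, -, hj⟩ := Finset.exists_ne_zero_of_sum_ne_zero (by rw [hsum χ' heq]; exact one_ne_zero)
    refine ⟨j, fun g => ?_⟩
    by_contra hne
    refine hj (Char.classInner_irr_of_ne (htw j) hχ' fun h => hne (congrFun h g).symm)
  · by_contra hj0
    have h1 := hsum χ fun _ => rfl
    have hirr : IsIrrCharacter G χ := by simpa using htw 0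
    have e0 : (fun g => χ g * ZMod.stdAddChar (j * ε g)) = χ := funext fun g => (hj g).symm
    have e1 : (fun g => χ g * ZMod.stdAddChar ((0 : ZMod m) * ε g)) = χ := funext fun g => by simp
    have h2 : ∀ i : ZMod m, 0 ≤ (classInner (fun g => χ g * ZMod.stdAddChar (i * ε g)) χ).re := fun i => by
      rw [Char.classInner_irr (htw i) hirr]
      split_ifs <;> simp
    have h3 := congrArg Complex.re h1
    rw [Complex.re_sum, ← Finset.sum_sdiff (Finset.subset_univ {j, 0}), Finset.sum_pair hj0, e0, e1,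
      Char.classInner_irr_self hirr] at h3
    have h4 := Finset.sum_nonneg (fun i (_ : i ∈ Finset.univ \ ({j, 0} : Finset (ZMod m))) => h2 i)
    simp only [Complex.one_re] at h3
    linarith

/-- The elements killed by `p`. -/
theorem card_mul_eq_zero {a : ℕ} : Nat.card {j : ZMod (p ^ (a + 1)) // (p : ZMod (p ^ (a + 1))) * j = 0} = p := by
  have : NeZero (p ^ (a + 1)) := ⟨pow_ne_zero _ hp.out.ne_zero⟩
  let f : Fin p → {j : ZMod (p ^ (a + 1)) // (p : ZMod (p ^ (a + 1))) * j = 0} := fun i =>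
    ⟨((i.val * p ^ a : ℕ) : ZMod (p ^ (a + 1))), by
      rw [← Nat.cast_mul, ZMod.natCast_eq_zero_iff]
      exact ⟨i.val, by ring⟩⟩
  refine (Nat.card_eq_of_bijective f ⟨fun i i' h => ?_, fun ⟨j, hj⟩ => ?_⟩).symm.trans (Nat.card_fin p)
  · have h1 := congrArg ZMod.val (congrArg Subtype.val h)
    have hlt : ∀ i : Fin p, i.val * p ^ a < p ^ (a + 1) := fun i => by
      rw [pow_succ', mul_lt_mul_iff_left₀ (pow_pos hp.out.pos a)]; exact i.2
    simp only [f, ZMod.val_natCast, Nat.mod_eq_of_lt (hlt _)] at h1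
    exact Fin.ext (Nat.eq_of_mul_eq_mul_right (pow_pos hp.out.pos a) h1)
  · rw [← ZMod.natCast_zmod_val j, ← Nat.cast_mul, ZMod.natCast_eq_zero_iff] at hj
    obtain ⟨c, hc⟩ := Nat.dvd_of_mul_dvd_mul_left hp.out.pos ((pow_succ' p a).symm.dvd.trans hj)
    have hlt := ZMod.val_lt j
    rw [hc] at hlt
    replace hlt : c < p := Nat.lt_of_mul_lt_mul_left (hlt.trans_eq (pow_succ p a))
    exact ⟨⟨c, hlt⟩, Subtype.ext (by simp only [f]; rw [mul_comm c, ← hc, ZMod.natCast_zmod_val])⟩

end Cfsg.Agent.ResidualCount
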