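/-
Galois fixed characters over a normal subgroup with cyclic `p`-quotient (namespace `Cfsg.Agent.ResidualCount`).

Main results: `coprime_card`, `lam`, `exists_fixed_extension`, `count`.
-/
import Cfsg.Agent.Lib.ResidualCount.Blocks
import Cfsg.Agent.Lib.ResidualCount.Linear
import Cfsg.Agent.Lib.CharApp.RelDegreeDist
import Cfsg.Agent.Lib.CharExtend.DetExt
import Cfsg.Agent.Lib.GaloisPow.Twist

set_option autoImplicit false
set_option linter.unusedSectionVars false

namespace Cfsg.Agent.ResidualCount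

open Cfsg Cfsg.Agent.Blocks

variable {G : Type*} [Group G] [Finite G] {p : ℕ} [hp : Fact p.Prime] {N : Subgroup G} [N.Normal] {k : ℕ}

theorem coprime_card (hk₁ : ∀ g : G, (∃ j : ℕ, orderOf g = p ^ j) → g ^ k = g ^ (1 + p))
    (hk₂ : ∀ g : G, Nat.Coprime (orderOf g) p → g ^ k = g) : k.Coprime (Nat.card G) := by
  by_contra h
  obtain ⟨q, hq, hqk, hqG⟩ := Nat.Prime.not_coprime_iff_dvd.mp h
  have := Fact.mk hq
  obtain ⟨g, hg⟩ := exists_prime_orderOf_dvd_card' q hqG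
  have h1 : g ^ k = 1 := orderOf_dvd_iff_pow_eq_one.mp (hg ▸ hqk)
  have hne : g ≠ 1 := fun h2 => by rw [h2, orderOf_one] at hg; exact hq.one_lt.ne hg
  by_cases h2 : q = p
  · have h3 := hk₁ g ⟨1, by rw [hg, h2, pow_one]⟩
    rw [h1, pow_add, pow_one, ← h2, ← hg, pow_orderOf_eq_one, mul_one] at h3
    exact hne h3.symm
  · have h3 := hk₂ g (by rw [hg]; exact (Nat.coprime_primes hq hp.out).mpr h2)
    exact hne (h3.symm.trans h1)

/-- The linear character attached to an element of `ZMod m`. -/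
noncomputable def lam {m : ℕ} [NeZero m] (ε : G → ZMod m) (hadd : ∀ g h, ε (g * h) = ε g + ε h) (j : ZMod m) :
    G →* ℂ where
  toFun g := ZMod.stdAddChar (j * ε g)
  map_one' := by
    have h0 : ε 1 = 0 := by simpa using hadd 1 1
    rw [h0, mul_zero, AddChar.map_zero_eq_one]
  map_mul' g h := by rw [hadd, mul_add, AddChar.map_add_eq_mul]

theorem apply_pow {A : Type*} [AddMonoidWithOne A] [IsLeftCancelAdd A] (ε : G → A) (hadd : ∀ g h, ε (g * h) = ε g + ε h) (g : G) (i : ℕ) :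
    ε (g ^ i) = i • ε g := by
  have h0 : ε 1 = 0 := by
    have := hadd 1 1
    rw [one_mul] at this
    exact left_eq_add.mp this
  induction i with
  | zero => simp [h0]
  | succ i ih => rw [pow_succ, hadd, ih, succ_nsmul]

variable {m : ℕ} [NeZero m] (ε : G → ZMod m) (hadd : ∀ g h, ε (g * h) = ε g + ε h)
include hadd

theorem apply_pow_k {g0 : G} (hg0 : ε g0 = 1) (hpg : ∃ j : ℕ, orderOf g0 = p ^ j)
    (hk₁ : ∀ g : G, (∃ j : ℕ, orderOf g = p ^ j) → g ^ k = g ^ (1 + p)) : (k : ZMod m) = 1 + (p : ZMod m) := by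
  have h1 := congrArg ε (hk₁ g0 hpg)
  rwa [apply_pow ε hadd, apply_pow ε hadd, hg0, nsmul_one, nsmul_one, Nat.cast_add, Nat.cast_one] at h1

theorem isIrr_twist {χ : G → ℂ} (hχ : IsIrrCharacter G χ) (j : ZMod m) :
    IsIrrCharacter G (fun g => χ g * ZMod.stdAddChar (j * ε g)) := by
  have := Fintype.ofFinite G
  exact Char.IsIrrCharacter.mul_linear hχ (lam ε hadd j)

/-- A fixed irreducible restriction has a fixed extension. -/
theorem exists_fixed_extension (hm : N.index = m) (hε : ∀ g, ε g = 0 ↔ g ∈ N) {g0 : G} (hg0 : ε g0 = 1)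
    (hN : N = Cfsg.pResidual p G) (hpg : ∃ j : ℕ, orderOf g0 = p ^ j) {a : ℕ} (hma : m = p ^ (a + 1))
    (hk₁ : ∀ g : G, (∃ j : ℕ, orderOf g = p ^ j) → g ^ k = g ^ (1 + p)) (hk : k.Coprime (Nat.card G))
    {χ : G → ℂ} (hχ : IsIrrCharacter G χ) (hres : IsIrrCharacter N (fun n : N => χ n))
    (hdeg : ¬ p ∣ charDegree χ) (hfix : ∀ n : N, χ ((n : G) ^ k) = χ n) :
    ∃ j₀ : ZMod m, ∀ g, χ (g ^ k) * ZMod.stdAddChar (j₀ * ε (g ^ k)) = χ g * ZMod.stdAddChar (j₀ * ε g) := by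
  classical
  have := Fintype.ofFinite G
  obtain ⟨⟨c, hc⟩, -⟩ := exists_twist_of_restrict hm ε hε (isIrr_twist ε hadd hχ)
    (GaloisPow.isIrrCharacter_comp_pow hk hχ) hres hfix
  -- compare determinants at `g0`
  have hχc := Char.IsIrrCharacter.isCharacter hχ
  obtain ⟨l, hl⟩ := CharExtend.exists_detChar_eq hχc
  set d := charDegree χ with hd
  have hd1 : χ 1 = (d : ℂ) := (charDegree_cast ⟨χ, hχ⟩).symm
  have hv : CharExtend.valHom G (lam ε hadd c).toHomUnits = fun g => ZMod.stdAddChar (c * ε g) := rfl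
  have h1 := PRational.detChar_comp_pow hχc hk g0
  rw [show (fun x => χ (x ^ k)) = χ * CharExtend.valHom G (lam ε hadd c).toHomUnits from funext fun x => hc x,
    CharExtend.detChar_mul_valHom hχc hd1, hl] at h1
  simp only [CharExtend.valHom_apply] at h1
  have hval : ((lam ε hadd c).toHomUnits g0 : ℂ) = ZMod.stdAddChar c := by
    show ZMod.stdAddChar (c * ε g0) = _
    rw [hg0, mul_one]
  have hlk : (l g0 : ℂ) ^ k = (l g0 : ℂ) * (l g0 : ℂ) ^ p := by
    rw [← Units.val_pow_eq_pow_val, ← map_pow, hk₁ g0 hpg, map_pow, Units.val_pow_eq_pow_val, pow_add, pow_one]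
  rw [hval, hlk] at h1
  have h2 := mul_left_cancel₀ (Units.ne_zero _) h1
  -- the `m`-th power of the value of the determinant is one
  have hg0m : g0 ^ m ∈ N := by
    rw [← hε, apply_pow ε hadd, hg0, nsmul_one, ZMod.natCast_self]
  have hlm : l g0 ^ m = 1 := by
    obtain ⟨j, hj⟩ := hpg
    rw [← map_pow]
    refine linear_value hN (l.comp N.subtype) ⟨g0 ^ m, hg0m⟩ (a := j) ?_
    show l (g0 ^ m) ^ p ^ j = 1
    rw [← map_pow, ← pow_mul, mul_comm, pow_mul, ← hj, pow_orderOf_eq_one, one_pow, map_one]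
  have h3 : ZMod.stdAddChar ((p ^ a * d : ℕ) • c) = (1 : ℂ) := by
    rw [AddChar.map_nsmul_eq_pow, mul_comm, pow_mul, h2, ← pow_mul, ← pow_succ', ← hma,
      ← Units.val_pow_eq_pow_val, hlm, Units.val_one]
  have h4 : (p ^ a * d : ℕ) • c = 0 := ZMod.injective_stdAddChar (h3.trans (AddChar.map_zero_eq_one _).symm)
  obtain ⟨t, ht⟩ : p ∣ c.val := by
    rw [nsmul_eq_mul, ← ZMod.natCast_zmod_val c, ← Nat.cast_mul, ZMod.natCast_eq_zero_iff] at h4
    have h5 : p ^ a * p ∣ p ^ a * (d * c.val) := by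
      rw [← pow_succ, ← mul_assoc]; exact hma ▸ h4
    exact (hp.out.dvd_mul.mp (Nat.dvd_of_mul_dvd_mul_left (pow_pos hp.out.pos a) h5)).resolve_left hdeg
  refine ⟨-(t : ZMod m), fun g => ?_⟩
  rw [hc g, mul_assoc, ← AddChar.map_add_eq_mul, apply_pow ε hadd, nsmul_eq_mul,
    apply_pow_k ε hadd hg0 hpg hk₁, ← ZMod.natCast_zmod_val c, ht, Nat.cast_mul]
  congr 2
  ring

end Cfsg.Agent.ResidualCount
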